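import Groth.Prelude.Def_ProEtW
import Mathlib.RingTheory.Localization.AtPrime.Basic
import Mathlib.RingTheory.Spectrum.Prime.Topology

/-!
# The w-localization as a ring of constructibly-locally fractional functions
-/

universe u

namespace Groth.Agent.AwLib

noncomputable section

variable (A : Type u) [CommRing A]

/-- the product of all local rings -/
abbrev Stalks : Type u := ∀ p : PrimeSpectrum A, Localization.AtPrime p.asIdeal

variable {A}

/-- the stratum `D(f) ∩ V(G)` -/
def strat (f : A) (G : Finset A) : Set (PrimeSpectrum A) :=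
  {p | f ∉ p.asIdeal ∧ ∀ g ∈ G, g ∈ p.asIdeal}

theorem strat_inter [DecidableEq A] (f f' : A) (G G' : Finset A) :
    strat (f * f') (G ∪ G') = strat f G ∩ strat f' G' := by
  ext p
  simp only [strat, Set.mem_setOf_eq, Set.mem_inter_iff, Finset.mem_union, p.2.mul_mem_iff_mem_or_mem,
    not_or, or_imp, forall_and]
  tauto

/-- a set which is a union of strata -/
def IsOpenC (V : Set (PrimeSpectrum A)) : Prop := ∀ p ∈ V, ∃ f G, p ∈ strat f G ∧ strat f G ⊆ V

theorem isOpenC_strat (f : A) (G : Finset A) : IsOpenC (strat f G) := fun _ hp => ⟨f, G, hp, subset_rfl⟩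

theorem IsOpenC.inter {V W : Set (PrimeSpectrum A)} (hV : IsOpenC V) (hW : IsOpenC W) : IsOpenC (V ∩ W) := by
  classical
  intro p hp
  obtain ⟨f, G, h1, h2⟩ := hV p hp.1
  obtain ⟨f', G', h1', h2'⟩ := hW p hp.2
  refine ⟨f * f', G ∪ G', ?_, ?_⟩ <;> rw [strat_inter]
  · exact ⟨h1, h1'⟩
  · exact Set.inter_subset_inter h2 h2'

theorem IsOpenC.compl_strat (f : A) (G : Finset A) : IsOpenC (strat f G)ᶜ := by
  intro p hp
  by_cases hf : f ∈ p.asIdeal
  · exact ⟨1, {f}, ⟨p.2.one_notMem, by simpa using hf⟩, fun q hq h => h.1 (hq.2 f (Finset.mem_singleton_self f))⟩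
  · obtain ⟨g, hg, hgp⟩ : ∃ g ∈ G, g ∉ p.asIdeal := by
      by_contra h
      push Not at h
      exact hp ⟨hf, h⟩
    exact ⟨g, ∅, ⟨hgp, by simp⟩, fun q hq h => hq.1 (h.2 g hg)⟩

theorem IsOpenC.univ : IsOpenC (Set.univ : Set (PrimeSpectrum A)) := fun p _ =>
  ⟨1, ∅, ⟨p.2.one_notMem, by simp⟩, Set.subset_univ _⟩

/-- `s` is a fraction on `V` -/
def IsFracOn (s : Stalks A) (V : Set (PrimeSpectrum A)) (a b : A) : Prop :=
  ∀ q ∈ V, b ∉ q.asIdeal ∧ s q * algebraMap A _ b = algebraMap A _ a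

/-- constructibly locally fractional -/
def IsFrac (s : Stalks A) : Prop := ∀ p, ∃ f G, p ∈ strat f G ∧ ∃ a b, IsFracOn s (strat f G) a b

theorem isFrac_iff_open {s : Stalks A} :
    IsFrac s ↔ ∀ p, ∃ V, IsOpenC V ∧ p ∈ V ∧ ∃ a b, IsFracOn s V a b := by
  refine ⟨fun h p => ?_, fun h p => ?_⟩
  · obtain ⟨f, G, hp, h⟩ := h p
    exact ⟨_, isOpenC_strat f G, hp, h⟩
  · obtain ⟨V, hV, hp, a, b, hab⟩ := h p
    obtain ⟨f, G, h1, h2⟩ := hV p hp
    exact ⟨f, G, h1, a, b, fun q hq => hab q (h2 hq)⟩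

variable (A) in
/-- the w-localization -/
def Aw : Subalgebra A (Stalks A) where
  carrier := {s | IsFrac s}
  mul_mem' := fun {s t} hs ht => isFrac_iff_open.2 fun p => by
    obtain ⟨f, G, hp, a, b, hab⟩ := hs p
    obtain ⟨f', G', hp', a', b', hab'⟩ := ht p
    refine ⟨strat f G ∩ strat f' G', (isOpenC_strat f G).inter (isOpenC_strat f' G'), ⟨hp, hp'⟩, a * a', b * b',
      fun q hq => ⟨q.2.mul_notMem (hab q hq.1).1 (hab' q hq.2).1, ?_⟩⟩
    rw [map_mul, map_mul, ← (hab q hq.1).2, ← (hab' q hq.2).2, Pi.mul_apply]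
    ring
  add_mem' := fun {s t} hs ht => isFrac_iff_open.2 fun p => by
    obtain ⟨f, G, hp, a, b, hab⟩ := hs p
    obtain ⟨f', G', hp', a', b', hab'⟩ := ht p
    refine ⟨strat f G ∩ strat f' G', (isOpenC_strat f G).inter (isOpenC_strat f' G'), ⟨hp, hp'⟩,
      a * b' + a' * b, b * b', fun q hq => ⟨q.2.mul_notMem (hab q hq.1).1 (hab' q hq.2).1, ?_⟩⟩
    rw [map_add, map_mul, map_mul, map_mul, ← (hab q hq.1).2, ← (hab' q hq.2).2, Pi.add_apply]
    ring
  algebraMap_mem' := fun a p => ⟨1, ∅, ⟨p.2.one_notMem, by simp⟩, a, 1, fun q _ =>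
    ⟨q.2.one_notMem, by rw [map_one, mul_one]; rfl⟩⟩

/-- evaluation at a point -/
def ev (p : PrimeSpectrum A) : Aw A →ₐ[A] Localization.AtPrime p.asIdeal :=
  (Pi.evalAlgHom A (fun p : PrimeSpectrum A => Localization.AtPrime p.asIdeal) p).comp (Aw A).val

theorem ext_ev {s t : Aw A} (h : ∀ p, ev p s = ev p t) : s = t := Subtype.ext (funext h)

open Classical in
/-- a fraction extended by zero outside a stratum -/
def pieceFun (f : A) (G : Finset A) (a b : A) : Stalks A := fun q =>
  if h : q ∈ strat f G ∧ b ∉ q.asIdeal then IsLocalization.mk' (M := q.asIdeal.primeCompl) _ a ⟨b, h.2⟩ else 0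

theorem pieceFun_mem (f : A) (G : Finset A) (a b : A) : IsFrac (pieceFun f G a b) := by
  classical
  refine isFrac_iff_open.2 fun p => ?_
  have e : ∀ q : PrimeSpectrum A, q ∈ strat (f * b) G ↔ q ∈ strat f G ∧ b ∉ q.asIdeal := fun q => by
    simp only [strat, Set.mem_setOf_eq, q.2.mul_mem_iff_mem_or_mem, not_or]
    tauto
  by_cases hp : p ∈ strat (f * b) G
  · refine ⟨_, isOpenC_strat _ _, hp, a, b, fun q hq => ⟨((e q).1 hq).2, ?_⟩⟩
    rw [pieceFun, dif_pos ((e q).1 hq)]
    exact IsLocalization.mk'_spec _ a _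
  · refine ⟨_, IsOpenC.compl_strat _ _, hp, 0, 1, fun q hq => ⟨q.2.one_notMem, ?_⟩⟩
    rw [pieceFun, dif_neg (fun h => hq ((e q).2 h)), zero_mul, map_zero]

/-- a fraction extended by zero, as an element -/
def piece (f : A) (G : Finset A) (a b : A) : Aw A := ⟨pieceFun f G a b, pieceFun_mem f G a b⟩

open Classical in
theorem ev_piece (f : A) (G : Finset A) (a b : A) (q : PrimeSpectrum A) :
    ev q (piece f G a b) = if h : q ∈ strat f G ∧ b ∉ q.asIdeal then IsLocalization.mk' (M := q.asIdeal.primeCompl) _ a ⟨b, h.2⟩ else 0 :=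
  rfl

theorem ev_surjective (p : PrimeSpectrum A) : Function.Surjective (ev p) := fun z => by
  obtain ⟨⟨a, b⟩, rfl⟩ := IsLocalization.mk'_surjective p.asIdeal.primeCompl z
  refine ⟨piece 1 ∅ a b, ?_⟩
  rw [ev_piece, dif_pos ⟨⟨p.2.one_notMem, by simp⟩, b.2⟩]

/-- the indicator of a stratum -/
def ind (f : A) (G : Finset A) : Aw A := piece f G 1 1

theorem ev_ind_of_mem {f : A} {G : Finset A} {q : PrimeSpectrum A} (h : q ∈ strat f G) : ev q (ind f G) = 1 := by
  rw [ind, ev_piece, dif_pos ⟨h, q.2.one_notMem⟩]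
  exact IsLocalization.mk'_self _ q.2.one_notMem

theorem ev_ind_of_notMem {f : A} {G : Finset A} {q : PrimeSpectrum A} (h : q ∉ strat f G) : ev q (ind f G) = 0 := by
  rw [ind, ev_piece, dif_neg fun h' => h h'.1]

theorem ind_mul [DecidableEq A] (f f' : A) (G G' : Finset A) :
    ind f G * ind f' G' = ind (f * f') (G ∪ G') := ext_ev fun q => by
  rw [map_mul]
  by_cases h : q ∈ strat f G <;> by_cases h' : q ∈ strat f' G'
  · rw [ev_ind_of_mem h, ev_ind_of_mem h', ev_ind_of_mem (by rw [strat_inter]; exact ⟨h, h'⟩), one_mul]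
  all_goals
    rw [ev_ind_of_notMem (f := f * f') (by rw [strat_inter]; exact fun hh => by simp_all)]
    first
      | rw [ev_ind_of_notMem h, zero_mul]
      | rw [ev_ind_of_notMem h', mul_zero]

/-- indicator of a basic open -/
abbrev indD (x : A) : Aw A := ind x ∅

theorem indD_of_notMem {x : A} {q : PrimeSpectrum A} (h : x ∉ q.asIdeal) : ev q (indD x) = 1 :=
  ev_ind_of_mem ⟨h, by simp⟩

theorem indD_of_mem {x : A} {q : PrimeSpectrum A} (h : x ∈ q.asIdeal) : ev q (indD x) = 0 :=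
  ev_ind_of_notMem fun h' => h'.1 h

theorem indD_mul (x y : A) : indD x * indD y = indD (x * y) := ext_ev fun q => by
  rw [map_mul]
  by_cases hx : x ∈ q.asIdeal
  · rw [indD_of_mem hx, zero_mul, indD_of_mem (q.asIdeal.mul_mem_right y hx)]
  · rw [indD_of_notMem hx, one_mul]
    by_cases hy : y ∈ q.asIdeal
    · rw [indD_of_mem hy, indD_of_mem (q.asIdeal.mul_mem_left x hy)]
    · rw [indD_of_notMem hy, indD_of_notMem (q.2.mul_notMem hx hy)]

/-- the point of `Spec A` selected by a prime of the w-localization -/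
def pt (P : PrimeSpectrum (Aw A)) : PrimeSpectrum A where
  asIdeal :=
    { carrier := {x | indD x ∈ P.asIdeal}
      zero_mem' := by
        have : indD (0 : A) = 0 := ext_ev fun q => by rw [indD_of_mem q.asIdeal.zero_mem, map_zero]
        simp [this]
      add_mem' := fun {x y} hx hy => by
        have : indD (x + y) = indD (x + y) * (indD x + indD y - indD x * indD y) := ext_ev fun q => by
          rw [map_mul, map_sub, map_add, map_mul]
          by_cases hxy : x + y ∈ q.asIdeal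
          · rw [indD_of_mem hxy, zero_mul]
          · rw [indD_of_notMem hxy, one_mul]
            by_cases h : x ∈ q.asIdeal
            · rw [indD_of_mem h, indD_of_notMem fun h' => hxy (q.asIdeal.add_mem h h')]; ring
            · rw [indD_of_notMem h]; ring
        show indD (x + y) ∈ P.asIdeal
        rw [this]
        exact P.asIdeal.mul_mem_left _ (P.asIdeal.sub_mem (P.asIdeal.add_mem hx hy) (P.asIdeal.mul_mem_left _ hy))
      smul_mem' := fun c x hx => by
        show indD (c * x) ∈ P.asIdeal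
        rw [← indD_mul]
        exact P.asIdeal.mul_mem_left _ hx }
  isPrime :=
    ⟨fun h => P.2.one_notMem <| by
        have h1 : indD (1 : A) = 1 := ext_ev fun q => by rw [indD_of_notMem q.2.one_notMem, map_one]
        exact h1 ▸ (show indD (1 : A) ∈ P.asIdeal from (Ideal.eq_top_iff_one _).1 h),
      fun {x y} h => P.2.mem_or_mem (show indD x * indD y ∈ P.asIdeal by rw [indD_mul]; exact h)⟩

theorem mem_pt_iff {P : PrimeSpectrum (Aw A)} {x : A} : x ∈ (pt P).asIdeal ↔ indD x ∈ P.asIdeal := Iff.rfl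

theorem ind_notMem {P : PrimeSpectrum (Aw A)} {f : A} {G : Finset A} (h : pt P ∈ strat f G) :
    ind f G ∉ P.asIdeal := by
  classical
  induction G using Finset.induction_on with
  | empty => exact h.1
  | insert g G _ ih =>
    have e : ind f (insert g G) = ind f G * (1 - indD g) := ext_ev fun q => by
      rw [map_mul, map_sub, map_one]
      by_cases hg : g ∈ q.asIdeal
      · rw [indD_of_mem hg, sub_zero, mul_one]
        by_cases hq : q ∈ strat f G
        · rw [ev_ind_of_mem hq, ev_ind_of_mem ⟨hq.1, by simpa [hg] using hq.2⟩]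
        · rw [ev_ind_of_notMem hq, ev_ind_of_notMem fun hh => hq ⟨hh.1, fun a ha => hh.2 a (Finset.mem_insert_of_mem ha)⟩]
      · rw [indD_of_notMem hg, sub_self, mul_zero,
          ev_ind_of_notMem fun hh => hg (hh.2 g (Finset.mem_insert_self _ _))]
    rw [e]
    refine P.2.mul_notMem (ih ⟨h.1, fun a ha => h.2 a (Finset.mem_insert_of_mem ha)⟩) fun hh => ?_
    have hg : indD g ∈ P.asIdeal := h.2 g (Finset.mem_insert_self _ _)
    exact P.2.one_notMem (by simpa using P.asIdeal.add_mem hh hg)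

theorem ker_ev_le (P : PrimeSpectrum (Aw A)) : RingHom.ker (ev (pt P)) ≤ P.asIdeal := by
  intro s hs
  obtain ⟨f, G, hp, a, b, hab⟩ := s.2 (pt P)
  have h0 : algebraMap A (Localization.AtPrime (pt P).asIdeal) a = 0 := by
    rw [← (hab _ hp).2, show s.1 (pt P) = 0 from hs, zero_mul]
  obtain ⟨c, hc⟩ := (IsLocalization.map_eq_zero_iff (pt P).asIdeal.primeCompl _ a).1 h0
  have hmem : pt P ∈ strat (f * (c : A)) G := ⟨(pt P).2.mul_notMem hp.1 c.2, hp.2⟩
  have hs0 : ind (f * (c : A)) G * s = 0 := ext_ev fun q => by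
    rw [map_mul, map_zero]
    by_cases hq : q ∈ strat (f * (c : A)) G
    · have hfc : f ∉ q.asIdeal ∧ (c : A) ∉ q.asIdeal := by
        simpa [q.2.mul_mem_iff_mem_or_mem, not_or] using hq.1
      obtain ⟨hb, he⟩ := hab q ⟨hfc.1, hq.2⟩
      rw [ev_ind_of_mem hq, one_mul]
      change s.1 q = 0
      refine (IsLocalization.map_units (Localization.AtPrime q.asIdeal) (⟨b, hb⟩ : q.asIdeal.primeCompl)).mul_left_eq_zero.1 (he.trans ?_)
      exact (IsLocalization.map_eq_zero_iff q.asIdeal.primeCompl _ a).2 ⟨⟨c, hfc.2⟩, hc⟩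
    · rw [ev_ind_of_notMem hq, zero_mul]
  exact (P.2.mem_or_mem (hs0 ▸ P.asIdeal.zero_mem)).resolve_left (ind_notMem hmem)

/-- the closed point over `p` -/
def cl (p : PrimeSpectrum A) : PrimeSpectrum (Aw A) :=
  PrimeSpectrum.comap (ev p).toRingHom (IsLocalRing.closedPoint _)

theorem cl_isMaximal (p : PrimeSpectrum A) : (cl p).asIdeal.IsMaximal :=
  @Ideal.comap_isMaximal_of_surjective _ _ _ _ _ _ _ (ev p).toRingHom (ev_surjective p)
    (IsLocalRing.maximalIdeal _) (IsLocalRing.maximalIdeal.isMaximal _)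

theorem comap_cl (p : PrimeSpectrum A) : PrimeSpectrum.comap (algebraMap A (Aw A)) (cl p) = p := by
  refine PrimeSpectrum.ext ?_
  change ((IsLocalRing.maximalIdeal _).comap (ev p).toRingHom).comap (algebraMap A (Aw A)) = p.asIdeal
  rw [Ideal.comap_comap, show (ev p).toRingHom.comp (algebraMap A (Aw A)) = algebraMap A _ from (ev p).comp_algebraMap]
  exact IsLocalization.AtPrime.under_maximalIdeal _ p.asIdeal

theorem pt_cl (p : PrimeSpectrum A) : pt (cl p) = p := by
  refine PrimeSpectrum.ext (Ideal.ext fun x => ?_)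
  show ev p (indD x) ∈ IsLocalRing.maximalIdeal _ ↔ x ∈ p.asIdeal
  by_cases h : x ∈ p.asIdeal
  · rw [indD_of_mem h]; simp [h]
  · rw [indD_of_notMem h]
    exact iff_of_false (IsLocalRing.maximalIdeal.isMaximal _).isPrime.one_notMem h

theorem le_cl (P : PrimeSpectrum (Aw A)) : P.asIdeal ≤ (cl (pt P)).asIdeal := by
  intro s hs
  by_contra hu
  obtain ⟨v, hv⟩ := (IsLocalRing.notMem_maximalIdeal.1 hu : IsUnit (ev (pt P) s)).exists_right_inv
  obtain ⟨t, rfl⟩ := ev_surjective (pt P) v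
  have : s * t - 1 ∈ P.asIdeal := ker_ev_le P (by
    rw [RingHom.mem_ker, map_sub, map_one, map_mul, hv, sub_self])
  exact P.2.one_notMem (by simpa using P.asIdeal.sub_mem (P.asIdeal.mul_mem_right t hs) this)

theorem pt_eq_of_le {P : PrimeSpectrum (Aw A)} {p : PrimeSpectrum A} (h : P.asIdeal ≤ (cl p).asIdeal) : pt P = p := by
  refine PrimeSpectrum.ext (Ideal.ext fun x => ⟨fun hx => (congrArg (fun q : PrimeSpectrum A => x ∈ q.asIdeal) (pt_cl p)).mp (h hx), fun hx => ?_⟩)
  by_contra hxP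
  have h2 : indD x * (1 - indD x) = 0 := ext_ev fun q => by
    by_cases hq : x ∈ q.asIdeal
    · rw [map_mul, indD_of_mem hq, zero_mul, map_zero]
    · rw [map_mul, map_sub, map_one, indD_of_notMem hq, sub_self, mul_zero, map_zero]
  have h3 : 1 - indD x ∈ (cl p).asIdeal := h ((P.2.mem_or_mem (h2 ▸ P.asIdeal.zero_mem)).resolve_left hxP)
  have h4 : indD x ∈ (cl p).asIdeal := (congrArg (fun q : PrimeSpectrum A => x ∈ q.asIdeal) (pt_cl p)).mpr hx
  exact (cl p).2.one_notMem (by simpa using (cl p).asIdeal.add_mem h3 h4)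

theorem isClosed_singleton_iff {P : PrimeSpectrum (Aw A)} :
    IsClosed ({P} : Set (PrimeSpectrum (Aw A))) ↔ P = cl (pt P) := by
  rw [PrimeSpectrum.isClosed_singleton_iff_isMaximal]
  refine ⟨fun h => PrimeSpectrum.ext (h.eq_of_le (cl (pt P)).2.ne_top (le_cl P)), fun h => ?_⟩
  rw [h]; exact cl_isMaximal _

/-- a prime over its selected point is closed -/
theorem eq_cl_of_forall {P : PrimeSpectrum (Aw A)} (hA : ∀ x ∈ (pt P).asIdeal, algebraMap A (Aw A) x ∈ P.asIdeal) :
    P = cl (pt P) := by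
  refine PrimeSpectrum.ext (le_antisymm (le_cl P) fun s hs => ?_)
  set p := pt P
  obtain ⟨⟨a, b⟩, hab⟩ := IsLocalization.mk'_surjective p.asIdeal.primeCompl (ev p s)
  have ha : a ∈ p.asIdeal := by
    have h1 : ev p s ∈ IsLocalRing.maximalIdeal (Localization.AtPrime p.asIdeal) := hs
    rw [← hab] at h1
    exact (IsLocalization.AtPrime.mk'_mem_maximal_iff _ p.asIdeal a b).1 h1
  obtain ⟨t, ht⟩ := ev_surjective p (IsLocalization.mk' _ 1 b)
  have hk : s - algebraMap A (Aw A) a * t ∈ P.asIdeal := ker_ev_le P (by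
    rw [RingHom.mem_ker, map_sub, map_mul, AlgHom.commutes, ht, ← hab, IsLocalization.mul_mk'_eq_mk'_of_mul,
      mul_one, sub_self])
  simpa using P.asIdeal.add_mem hk (P.asIdeal.mul_mem_right t (hA a ha))


/-- the ideal cutting out the closed points -/
def clIdeal : Ideal (Aw A) := ⨅ p : PrimeSpectrum A, (cl p).asIdeal

theorem closedPoints_eq :
    ProEtW.closedPoints (PrimeSpectrum (Aw A)) = PrimeSpectrum.zeroLocus (clIdeal (A := A) : Set (Aw A)) := by
  ext P
  constructor
  · intro h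
    rw [isClosed_singleton_iff.1 h]
    exact iInf_le (fun p => (cl p).asIdeal) (pt P)
  · intro h
    refine isClosed_singleton_iff.2 (eq_cl_of_forall fun x hx => ?_)
    have hmem : algebraMap A (Aw A) x * (1 - indD x) ∈ clIdeal (A := A) := by
      refine Ideal.mem_iInf.2 fun q => ?_
      show ev q (algebraMap A (Aw A) x * (1 - indD x)) ∈ IsLocalRing.maximalIdeal _
      rw [map_mul, map_sub, map_one, AlgHom.commutes]
      by_cases hq : x ∈ q.asIdeal
      · rw [indD_of_mem hq, sub_zero, mul_one]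
        exact (IsLocalization.AtPrime.to_map_mem_maximal_iff _ q.asIdeal x).2 hq
      · rw [indD_of_notMem hq, sub_self, mul_zero]; exact Submodule.zero_mem _
    refine (P.2.mem_or_mem (h hmem)).resolve_right fun h1 => ?_
    exact P.2.one_notMem (by simpa using P.asIdeal.add_mem h1 (show indD x ∈ P.asIdeal from hx))

theorem isWLocal : ProEtW.IsWLocal (PrimeSpectrum (Aw A)) := by
  refine ⟨inferInstance, ?_, fun P => ⟨cl (pt P), ⟨?_, ?_⟩, ?_⟩⟩
  · show IsClosed (ProEtW.closedPoints (PrimeSpectrum (Aw A)))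
    rw [closedPoints_eq]; exact PrimeSpectrum.isClosed_zeroLocus _
  · exact (PrimeSpectrum.isClosed_singleton_iff_isMaximal _).2 (cl_isMaximal _)
  · exact (PrimeSpectrum.le_iff_specializes _ _).1 (le_cl P)
  · rintro Q ⟨hQ, hPQ⟩
    have h1 := isClosed_singleton_iff.1 hQ
    have h2 : pt P = pt Q := by
      refine pt_eq_of_le (((PrimeSpectrum.le_iff_specializes _ _).2 hPQ).trans ?_)
      exact le_cl Q
    rw [h2]; exact h1

theorem bijOn : Set.BijOn (PrimeSpectrum.comap (algebraMap A (Aw A)))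
    (ProEtW.closedPoints (PrimeSpectrum (Aw A))) Set.univ := by
  refine ⟨Set.mapsTo_univ _ _, fun P hP Q hQ h => ?_, fun p _ => ⟨cl p, ?_, comap_cl p⟩⟩
  · rw [isClosed_singleton_iff.1 hP, isClosed_singleton_iff.1 hQ] at h ⊢
    rw [comap_cl, comap_cl] at h
    rw [h]
  · exact (PrimeSpectrum.isClosed_singleton_iff_isMaximal _).2 (cl_isMaximal _)

end

end Groth.Agent.AwLib
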