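import Groth.Agent.AwLib.IndZar
import Groth.Agent.IndZarLib.Away
import Groth.Agent.S0738
import Groth.Agent.WLocalLib.Homeo
import Groth.Agent.IndEtLib.Localization

/-!
# The w-localization along a profinite closed subset
-/

universe u

namespace Groth.Agent.AwLib

noncomputable section

variable {A : Type u} [CommRing A] (I : Ideal A)

theorem mem_map_of_ev {s : Aw A}
    (h : ∀ z : PrimeSpectrum A, I ≤ z.asIdeal → ev z s ∈ I.map (algebraMap A (Localization.AtPrime z.asIdeal))) :
    s ∈ I.map (algebraMap A (Aw A)) := by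
  let J : Ideal (Aw A) :=
    { carrier := {d | d * s ∈ I.map (algebraMap A (Aw A))}
      zero_mem' := by simp
      add_mem' := fun {a b} ha hb => by
        simp only [Set.mem_setOf_eq, add_mul] at *
        exact Ideal.add_mem _ ha hb
      smul_mem' := fun c a ha => by
        simp only [Set.mem_setOf_eq, smul_eq_mul, mul_assoc] at *
        exact Ideal.mul_mem_left _ c ha }
  suffices hJ : J = ⊤ by
    have h1 : (1 : Aw A) ∈ J := hJ ▸ Submodule.mem_top
    simpa [J] using h1
  by_contra hne
  obtain ⟨M, hM, hle⟩ := Ideal.exists_le_maximal J hne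
  let P : PrimeSpectrum (Aw A) := ⟨M, hM.isPrime⟩
  by_cases hp : I ≤ (pt P).asIdeal
  · have h1 := h _ hp
    rw [← (ev (pt P)).comp_algebraMap, ← Ideal.map_map] at h1
    obtain ⟨t, ht, hts⟩ := (Ideal.mem_map_iff_of_surjective _ (ev_surjective (pt P))).1 h1
    obtain ⟨f, G, hmem, hz⟩ := exists_strat_eq_zero (s := s - t) (p := pt P)
      (by rw [map_sub, sub_eq_zero]; exact hts.symm)
    refine ind_notMem (P := P) hmem (hle ?_)
    show ind f G * s ∈ I.map (algebraMap A (Aw A))
    have e : ind f G * s = ind f G * t := ext_ev fun q => by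
      rw [map_mul, map_mul]
      by_cases hq : q ∈ strat f G
      · have := hz q hq
        rw [map_sub, sub_eq_zero] at this
        rw [this]
      · rw [ev_ind_of_notMem hq, zero_mul, zero_mul]
    rw [e]
    exact Ideal.mul_mem_left _ _ ht
  · obtain ⟨g, hgI, hgp⟩ := SetLike.not_le_iff_exists.1 hp
    refine ind_notMem (P := P) (f := g) (G := ∅) ⟨hgp, by simp⟩ (hle ?_)
    show indD g * s ∈ I.map (algebraMap A (Aw A))
    have e : indD g = algebraMap A (Aw A) g * piece g ∅ 1 g := ext_ev fun q => by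
      rw [map_mul, AlgHom.commutes]
      by_cases hq : g ∈ q.asIdeal
      · rw [indD_of_mem hq, ev_piece, dif_neg (fun hh => hh.2 hq), mul_zero]
      · rw [indD_of_notMem hq, ev_piece, dif_pos ⟨⟨hq, by simp⟩, hq⟩]
        exact ((IsLocalization.mk'_spec' (M := q.asIdeal.primeCompl) (Localization.AtPrime q.asIdeal) (1 : A) ⟨g, hq⟩).trans (map_one _)).symm
    rw [e, mul_assoc]
    exact Ideal.mul_mem_right _ _ (Ideal.mem_map_of_mem _ hgI)

variable (hI : ProEtW.IsProfinite (PrimeSpectrum.zeroLocus (R := A) I))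

include hI in
theorem exists_sub_mem (s : Aw A) : ∃ a : A, s - algebraMap A (Aw A) a ∈ I.map (algebraMap A (Aw A)) := by
  let π := algebraMap A (A ⧸ I)
  have hπ : Function.Surjective π := Ideal.Quotient.mk_surjective
  have hemb := PrimeSpectrum.isClosedEmbedding_comap_of_surjective _ π hπ
  have hrange : Set.range (PrimeSpectrum.comap π) = PrimeSpectrum.zeroLocus (R := A) I := by
    rw [range_comap_of_surjective _ π hπ]
    exact congrArg PrimeSpectrum.zeroLocus (congrArg SetLike.coe (Ideal.mk_ker (I := I)))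
  haveI : T2Space (PrimeSpectrum.zeroLocus (R := A) (I : Set A)) := hI.2.1
  haveI : T2Space (PrimeSpectrum (A ⧸ I)) :=
    (hemb.isEmbedding.toHomeomorph.trans (Homeomorph.setCongr hrange)).isEmbedding.t2Space
  let J : Ideal A :=
    { carrier := {d | ∃ a, algebraMap A (Aw A) d * s - algebraMap A (Aw A) a ∈ I.map (algebraMap A (Aw A))}
      zero_mem' := ⟨0, by simp⟩
      add_mem' := fun {d d'} ⟨a, ha⟩ ⟨a', ha'⟩ => ⟨a + a', by
        convert Ideal.add_mem _ ha ha' using 1
        rw [map_add, map_add]; ring⟩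
      smul_mem' := fun c d ⟨a, ha⟩ => ⟨c * a, by
        convert Ideal.mul_mem_left _ (algebraMap A (Aw A) c) ha using 1
        rw [smul_eq_mul, map_mul, map_mul]; ring⟩ }
  suffices hJ : J = ⊤ by
    obtain ⟨a, ha⟩ : (1 : A) ∈ J := hJ ▸ Submodule.mem_top
    exact ⟨a, by simpa using ha⟩
  by_contra hne
  obtain ⟨M, hM, hle⟩ := Ideal.exists_le_maximal J hne
  let z : PrimeSpectrum A := ⟨M, hM.isPrime⟩
  have hIM : I ≤ M := fun x hx => hle ⟨0, by
    rw [map_zero, sub_zero]
    exact Ideal.mul_mem_right _ _ (Ideal.mem_map_of_mem _ hx)⟩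
  obtain ⟨f, G, hz, a, c, hac⟩ := s.2 z
  have hcl : ∀ x : A, IsClopen (PrimeSpectrum.basicOpen (π x) : Set (PrimeSpectrum (A ⧸ I))) := fun x =>
    ⟨(PrimeSpectrum.isCompact_basicOpen _).isClosed, (PrimeSpectrum.basicOpen _).isOpen⟩
  have hV : IsClopen (PrimeSpectrum.comap π ⁻¹' strat f G) := by
    have e : PrimeSpectrum.comap π ⁻¹' strat f G = (PrimeSpectrum.basicOpen (π f) : Set _) ∩
        ⋂ g ∈ G, (PrimeSpectrum.basicOpen (π g) : Set (PrimeSpectrum (A ⧸ I)))ᶜ := by
      ext x; simp [strat]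
    rw [e]
    exact (hcl f).inter (isClopen_biInter_finset fun g _ => (hcl g).compl)
  obtain ⟨ē, he, heq⟩ := PrimeSpectrum.exists_idempotent_basicOpen_eq_of_isClopen hV
  obtain ⟨x, hx⟩ := hπ ē
  have key : ∀ q : PrimeSpectrum A, I ≤ q.asIdeal → (x ∉ q.asIdeal ↔ q ∈ strat f G) := fun q hq => by
    obtain ⟨q', rfl⟩ : q ∈ Set.range (PrimeSpectrum.comap π) := by
      rw [hrange]; exact hq
    refine Iff.trans ?_ (Set.ext_iff.1 heq q').symm
    show π x ∉ q'.asIdeal ↔ _
    rw [hx]; rfl
  have hxx : x * (1 - x) ∈ I := by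
    rw [← Ideal.Quotient.eq_zero_iff_mem, map_mul, map_sub, map_one,
      show Ideal.Quotient.mk I x = ē from hx, mul_sub, mul_one, he.eq, sub_self]
  have hmem : x * c ∈ J := ⟨x * a, mem_map_of_ev I fun q hq => by
    rw [map_mul, map_mul, map_sub, map_mul, map_mul, map_mul, AlgHom.commutes, AlgHom.commutes, AlgHom.commutes]
    by_cases hxq : x ∈ q.asIdeal
    · have h1 : IsUnit (algebraMap A (Localization.AtPrime q.asIdeal) (1 - x)) :=
        IsLocalization.map_units _ (⟨1 - x, fun h => q.2.one_notMem (by simpa using q.asIdeal.add_mem h hxq)⟩ :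
          q.asIdeal.primeCompl)
      have h2 : algebraMap A (Localization.AtPrime q.asIdeal) x ∈ I.map (algebraMap A (Localization.AtPrime q.asIdeal)) := by
        have := Ideal.mem_map_of_mem (algebraMap A (Localization.AtPrime q.asIdeal)) hxx
        rw [map_mul] at this
        exact (Ideal.mul_unit_mem_iff_mem _ h1).1 this
      exact Ideal.sub_mem _ (Ideal.mul_mem_right _ _ (Ideal.mul_mem_right _ _ h2)) (Ideal.mul_mem_right _ _ h2)
    · obtain ⟨hc, he'⟩ := hac q ((key q hq).1 hxq)
      have h3 : ev q s * algebraMap A _ c = algebraMap A _ a := he'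
      rw [mul_assoc, mul_comm (algebraMap A _ c), h3, sub_self]
      exact Ideal.zero_mem _⟩
  rcases hM.isPrime.mem_or_mem (hle hmem) with h | h
  · exact (key z hIM).2 hz h
  · exact (hac z hz).1 h

/-- idempotents which are one along `V(I)` -/
def closedMonoid : Submonoid (Aw A) where
  carrier := {e | IsIdempotentElem e ∧ ∀ z : PrimeSpectrum A, I ≤ z.asIdeal → ev z e = 1}
  one_mem' := ⟨IsIdempotentElem.one, fun _ _ => map_one _⟩
  mul_mem' := fun ha hb => ⟨ha.1.mul hb.1, fun z hz => by rw [map_mul, ha.2 z hz, hb.2 z hz, one_mul]⟩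

theorem disjoint_closedMonoid_iff (P : PrimeSpectrum (Aw A)) :
    Disjoint (closedMonoid I : Set (Aw A)) P.asIdeal ↔ I ≤ (pt P).asIdeal := by
  refine ⟨fun h g hg => ?_, fun h => Set.disjoint_left.2 fun e he heP => ?_⟩
  · by_contra hgp
    have hidem : indD g * indD g = indD g := by
      rw [indD_mul]
      exact ext_ev fun q => by
        by_cases hq : g ∈ q.asIdeal
        · rw [indD_of_mem hq, indD_of_mem (q.asIdeal.mul_mem_right g hq)]
        · rw [indD_of_notMem hq, indD_of_notMem (q.2.mul_notMem hq hq)]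
    have hmem : 1 - indD g ∈ closedMonoid I :=
      ⟨IsIdempotentElem.one_sub hidem, fun z hz => by rw [map_sub, map_one, indD_of_mem (hz hg), sub_zero]⟩
    refine Set.disjoint_left.1 h hmem ((P.2.mem_or_mem (x := indD g) ?_).resolve_left fun hh => hgp hh)
    rw [mul_sub, mul_one, hidem, sub_self]; exact P.asIdeal.zero_mem
  · have h1 : ev (pt P) e ∈ IsLocalRing.maximalIdeal _ := le_cl P heP
    rw [he.2 _ h] at h1
    exact (IsLocalRing.maximalIdeal.isMaximal _).isPrime.one_notMem h1

variable (B : Type u) [CommRing B] [Algebra (Aw A) B] [IsLocalization (closedMonoid I) B] [Algebra A B]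
  [IsScalarTower A (Aw A) B]

include I in
theorem surjective_algebraMap : Function.Surjective (algebraMap (Aw A) B) := fun z => by
  obtain ⟨⟨a, s⟩, rfl⟩ := IsLocalization.mk'_surjective (closedMonoid I) z
  refine ⟨a, (IsLocalization.eq_mk'_iff_mul_eq (z := algebraMap (Aw A) B a)).2 ?_⟩
  have h1 : algebraMap (Aw A) B s = 1 :=
    (IsLocalization.map_units B s).mul_left_cancel (by rw [mul_one, ← map_mul, s.2.1.eq])
  rw [h1, mul_one]

include I in
theorem isIndZariski_awI : EtPBC.IsIndZariski A B :=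
  IndZarLib.isIndZariski_localization_trans (isIndZariski A) (closedMonoid I)

include I in
theorem isWLocal_awI : ProEtW.IsWLocal (PrimeSpectrum B) := by
  have hemb := PrimeSpectrum.isClosedEmbedding_comap_of_surjective B (algebraMap (Aw A) B) (surjective_algebraMap I B)
  exact WLocalLib.isWLocal_homeo hemb.isEmbedding.toHomeomorph
    (Groth.Agent.S0738.result _ isWLocal _ hemb.isClosed_range)

include hI in
theorem closedPoints_awI :
    ProEtW.closedPoints (PrimeSpectrum B) = PrimeSpectrum.zeroLocus (I.map (algebraMap A B)) := by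
  have hemb := PrimeSpectrum.isClosedEmbedding_comap_of_surjective B (algebraMap (Aw A) B) (surjective_algebraMap I B)
  ext P
  have hmapI : P ∈ PrimeSpectrum.zeroLocus (I.map (algebraMap A B) : Set B) ↔
      I ≤ (PrimeSpectrum.comap (algebraMap A (Aw A)) (PrimeSpectrum.comap (algebraMap (Aw A) B) P)).asIdeal := by
    rw [PrimeSpectrum.mem_zeroLocus, ← PrimeSpectrum.comap_comp_apply, SetLike.coe_subset_coe, Ideal.map_le_iff_le_comap,
      ← IsScalarTower.algebraMap_eq]
    rfl
  set Q := PrimeSpectrum.comap (algebraMap (Aw A) B) P with hQdef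
  have hpt : I ≤ (pt Q).asIdeal := (disjoint_closedMonoid_iff I Q).1
    ((PrimeSpectrum.localization_comap_range B (closedMonoid I)).le ⟨P, rfl⟩)
  have hcl : P ∈ ProEtW.closedPoints (PrimeSpectrum B) ↔ Q = cl (pt Q) := by
    rw [← isClosed_singleton_iff]
    show IsClosed ({P} : Set _) ↔ _
    rw [hemb.isClosed_iff_image_isClosed, Set.image_singleton]
  rw [hcl, hmapI]
  refine ⟨fun h => ?_, fun h => ?_⟩
  · rw [h, comap_cl]; exact hpt
  · refine eq_cl_of_forall fun x hx => ?_
    have hle : (PrimeSpectrum.comap (algebraMap A (Aw A)) Q).asIdeal ≤ (pt Q).asIdeal := by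
      refine le_trans (Ideal.comap_mono (le_cl Q)) (le_of_eq ?_)
      exact congrArg PrimeSpectrum.asIdeal (comap_cl (pt Q))
    have hsp : (⟨PrimeSpectrum.comap (algebraMap A (Aw A)) Q, h⟩ : PrimeSpectrum.zeroLocus (R := A) (I : Set A)) ⤳
        ⟨pt Q, hpt⟩ := (subtype_specializes_iff _ _).2 ((PrimeSpectrum.le_iff_specializes _ _).1 hle)
    haveI : T2Space (PrimeSpectrum.zeroLocus (R := A) (I : Set A)) := hI.2.1
    exact (congrArg (fun q : PrimeSpectrum.zeroLocus (R := A) (I : Set A) => x ∈ q.1.asIdeal) hsp.eq).mpr hx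

include hI in
theorem bijective_quotientMap :
    Function.Bijective (Ideal.quotientMap (I.map (algebraMap A B)) (algebraMap A B) Ideal.le_comap_map) := by
  refine ⟨?_, fun z => ?_⟩
  · rw [injective_iff_map_eq_zero]
    intro a
    obtain ⟨a, rfl⟩ := Ideal.Quotient.mk_surjective a
    intro ha
    rw [Ideal.quotientMap_mk, Ideal.Quotient.eq_zero_iff_mem] at ha
    rw [Ideal.Quotient.eq_zero_iff_mem]
    refine Ideal.mem_of_localization_maximal fun M hM => ?_
    by_cases hIM : I ≤ M
    · let z : PrimeSpectrum A := ⟨M, hM.isPrime⟩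
      let θ : B →+* Localization.AtPrime M := IsLocalization.lift (M := closedMonoid I) (g := (ev z).toRingHom)
        (fun e => by rw [show (ev z).toRingHom e = 1 from e.2.2 z hIM]; exact isUnit_one)
      have hθ : θ.comp (algebraMap A B) = algebraMap A (Localization.AtPrime M) := by
        rw [IsScalarTower.algebraMap_eq A (Aw A) B, ← RingHom.comp_assoc, IsLocalization.lift_comp]
        exact (ev z).comp_algebraMap
      have h1 := Ideal.mem_map_of_mem θ ha
      rw [Ideal.map_map, hθ, ← RingHom.comp_apply, hθ] at h1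
      exact h1
    · obtain ⟨g, hgI, hgM⟩ := SetLike.not_le_iff_exists.1 hIM
      rw [Ideal.eq_top_of_isUnit_mem _ (Ideal.mem_map_of_mem _ hgI)
        (IsLocalization.map_units (Localization.AtPrime M) (⟨g, hgM⟩ : M.primeCompl))]
      exact Submodule.mem_top
  · obtain ⟨b, rfl⟩ := Ideal.Quotient.mk_surjective z
    obtain ⟨s, rfl⟩ := surjective_algebraMap I B b
    obtain ⟨a, ha⟩ := exists_sub_mem I hI s
    refine ⟨Ideal.Quotient.mk I a, ?_⟩
    rw [Ideal.quotientMap_mk, Ideal.Quotient.eq]
    have h1 := Ideal.mem_map_of_mem (algebraMap (Aw A) B) ha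
    rw [Ideal.map_map, ← IsScalarTower.algebraMap_eq, map_sub, ← IsScalarTower.algebraMap_apply] at h1
    have h2 := Ideal.neg_mem_iff (I.map (algebraMap A B)) |>.2 h1
    rwa [neg_sub] at h2

end

end Groth.Agent.AwLib
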