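import Groth.Agent.AwLib.Basic
import Groth.Agent.IndZarLib.Closure

/-!
# The w-localization is ind-Zariski and faithfully flat
-/

universe u

namespace Groth.Agent.AwLib

noncomputable section

variable {A : Type u} [CommRing A]

/-- `A_c → A_q` -/
def awayTo (c : A) (q : PrimeSpectrum A) (h : c ∉ q.asIdeal) :
    Localization.Away c →ₐ[A] Localization.AtPrime q.asIdeal :=
  IsLocalization.Away.liftAlgHom (A := A) c (f := Algebra.ofId A _)
    (IsLocalization.map_units (Localization.AtPrime q.asIdeal) (⟨c, h⟩ : q.asIdeal.primeCompl))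

theorem awayTo_mk {c : A} {q : PrimeSpectrum A} (h : c ∉ q.asIdeal) (z : Localization.Away c) {a : A} {n : ℕ}
    (hz : z * algebraMap A _ (c ^ n) = algebraMap A _ a) :
    awayTo c q h z * algebraMap A _ (c ^ n) = algebraMap A _ a := by
  have := congrArg (awayTo c q h) hz
  rwa [map_mul, AlgHom.commutes, AlgHom.commutes] at this

open Classical in
/-- an element of `A_c` extended by zero -/
def extZero (c : A) (z : Localization.Away c) : Aw A :=
  ⟨fun q => if h : c ∉ q.asIdeal then awayTo c q h z else 0, by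
    obtain ⟨⟨a, ⟨_, n, rfl⟩⟩, hz⟩ := IsLocalization.surj (Submonoid.powers c) z
    refine isFrac_iff_open.2 fun p => ?_
    by_cases hp : c ∈ p.asIdeal
    · refine ⟨_, IsOpenC.compl_strat c ∅, fun h => h.1 hp, 0, 1, fun q hq => ⟨q.2.one_notMem, ?_⟩⟩
      have hq' : ¬ c ∉ q.asIdeal := fun h => hq ⟨h, by simp⟩
      beta_reduce
      rw [dif_neg hq', zero_mul, map_zero]
    · refine ⟨_, isOpenC_strat c ∅, ⟨hp, by simp⟩, a, c ^ n, fun q hq => ⟨fun h => hq.1 (q.2.mem_of_pow_mem n h), ?_⟩⟩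
      beta_reduce
      rw [dif_pos hq.1]
      exact awayTo_mk hq.1 z hz⟩

theorem ev_extZero {c : A} {q : PrimeSpectrum A} (h : c ∉ q.asIdeal) (z : Localization.Away c) :
    ev q (extZero c z) = awayTo c q h z := dif_pos h

theorem exists_strat_eq_zero {s : Aw A} {p : PrimeSpectrum A} (hs : ev p s = 0) :
    ∃ f G, p ∈ strat f G ∧ ∀ q ∈ strat f G, ev q s = 0 := by
  obtain ⟨f, G, hp, a, b, hab⟩ := s.2 p
  have h0 : algebraMap A (Localization.AtPrime p.asIdeal) a = 0 := by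
    rw [← (hab _ hp).2, show s.1 p = 0 from hs, zero_mul]
  obtain ⟨c, hc⟩ := (IsLocalization.map_eq_zero_iff p.asIdeal.primeCompl _ a).1 h0
  refine ⟨f * (c : A), G, ⟨p.2.mul_notMem hp.1 c.2, hp.2⟩, fun q hq => ?_⟩
  have hfc : f ∉ q.asIdeal ∧ (c : A) ∉ q.asIdeal := by
    simpa [q.2.mul_mem_iff_mem_or_mem, not_or] using hq.1
  obtain ⟨hb, he⟩ := hab q ⟨hfc.1, hq.2⟩
  change s.1 q = 0
  refine (IsLocalization.map_units (Localization.AtPrime q.asIdeal) (⟨b, hb⟩ : q.asIdeal.primeCompl)).mul_left_eq_zero.1 (he.trans ?_)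
  exact (IsLocalization.map_eq_zero_iff q.asIdeal.primeCompl _ a).2 ⟨⟨c, hfc.2⟩, hc⟩

theorem exists_local {P : Type u} [CommRing P] [Algebra A P] [Algebra.FinitePresentation A P]
    (φ : P →ₐ[A] Aw A) (p : PrimeSpectrum A) :
    ∃ (c : A) (ψ : P →ₐ[A] Localization.Away c) (f : A) (G : Finset A), p ∈ strat f G ∧
      ∀ q ∈ strat f G, ∃ h : c ∉ q.asIdeal, (awayTo c q h).comp ψ = (ev q).comp φ := by
  classical
  obtain ⟨m, ψ, hψ⟩ := IndEtLib.exists_lift_away p.asIdeal.primeCompl (Localization.AtPrime p.asIdeal) P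
    ((ev p).comp φ)
  have hm : m.el ∉ p.asIdeal := Subtype.prop m
  obtain ⟨s, hs⟩ := Algebra.FiniteType.out (R := A) (A := P)
  have key : ∀ t : Finset P, ∃ V, IsOpenC V ∧ p ∈ V ∧ ∀ q ∈ V, ∃ h : m.el ∉ q.asIdeal,
      ∀ x ∈ t, awayTo m.el q h (ψ x) = ev q (φ x) := by
    intro t
    induction t using Finset.induction_on with
    | empty => exact ⟨_, isOpenC_strat m.el ∅, ⟨hm, by simp⟩, fun q hq => ⟨hq.1, by simp⟩⟩
    | insert x t _ ih =>
      obtain ⟨V, hV, hpV, hVq⟩ := ih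
      have h0 : ev p (φ x - extZero m.el (ψ x)) = 0 := by
        rw [map_sub, ev_extZero hm, sub_eq_zero]
        refine (AlgHom.congr_fun hψ x).symm.trans ?_
        exact AlgHom.congr_fun (IndEtLib.stage_hom_ext (IndEtLib.LocIdx.toLoc _ m) (awayTo m.el p hm)) (ψ x)
      obtain ⟨f, G, hp, hz⟩ := exists_strat_eq_zero h0
      refine ⟨V ∩ strat f G, hV.inter (isOpenC_strat f G), ⟨hpV, hp⟩, fun q hq => ?_⟩
      obtain ⟨h, hh⟩ := hVq q hq.1
      refine ⟨h, fun y hy => ?_⟩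
      rcases Finset.mem_insert.1 hy with rfl | hy
      · have := hz q hq.2
        rw [map_sub, ev_extZero h, sub_eq_zero] at this
        exact this.symm
      · exact hh y hy
  obtain ⟨V, hV, hp, hq⟩ := key s
  obtain ⟨f, G, hp', hsub⟩ := hV p hp
  refine ⟨m.el, ψ, f, G, hp', fun q hqV => ?_⟩
  obtain ⟨h, hh⟩ := hq q (hsub hqV)
  exact ⟨h, AlgHom.ext_of_adjoin_eq_top hs hh⟩

theorem exists_finite_cover (Z : PrimeSpectrum A → Set (PrimeSpectrum A)) (hZ : ∀ p, IsOpenC (Z p))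
    (hp : ∀ p, p ∈ Z p) : ∃ T : Finset (PrimeSpectrum A), ∀ q, ∃ p ∈ T, q ∈ Z p := by
  classical
  choose f G hmem hsub using fun p => hZ p p (hp p)
  have htop : Ideal.span (Set.range fun p => ind (f p) (G p)) = (⊤ : Ideal (Aw A)) := by
    by_contra hne
    obtain ⟨M, hM, hle⟩ := Ideal.exists_le_maximal _ hne
    exact ind_notMem (P := ⟨M, hM.isPrime⟩) (hmem _) (hle (Ideal.subset_span ⟨_, rfl⟩))
  obtain ⟨s', hs', htop'⟩ := (Ideal.span_eq_top_iff_finite _).1 htop
  choose g hg using fun x : (s' : Set (Aw A)) => hs' x.2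
  refine ⟨s'.attach.image fun x => g ⟨x.1, x.2⟩, fun q => ?_⟩
  by_contra hq
  push Not at hq
  have : Ideal.span (s' : Set (Aw A)) ≤ RingHom.ker (ev q) := Ideal.span_le.2 fun x hx => by
    show ev q x = 0
    rw [← (show ind (f (g ⟨x, hx⟩)) (G (g ⟨x, hx⟩)) = x from hg ⟨x, hx⟩)]
    exact ev_ind_of_notMem fun h => hq _ (Finset.mem_image.2 ⟨⟨x, hx⟩, Finset.mem_attach _ _, rfl⟩) (hsub _ h)
  rw [htop'] at this
  exact one_ne_zero ((map_one (ev q)).symm.trans (RingHom.mem_ker.1 (this (Submodule.mem_top (x := 1)))))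

theorem isIndZariski (A : Type u) [CommRing A] : EtPBC.IsIndZariski A (Aw A) := by
  classical
  refine IndZarLib.isIndZariski_of_factor fun P _ _ _ φ => ?_
  choose c ψ f G hpV hq using exists_local φ
  let V : PrimeSpectrum A → Set (PrimeSpectrum A) := fun p => strat (f p) (G p)
  have hV : ∀ p, IsOpenC (V p) := fun p => isOpenC_strat _ _
  obtain ⟨T, hT⟩ := exists_finite_cover V hV hpV
  let e := T.equivFin
  let g : Fin T.card → PrimeSpectrum A := fun i => (e.symm i).1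
  have hcov : ∀ q, ∃ i, q ∈ V (g i) := fun q => by
    obtain ⟨p, hp, hq⟩ := hT q
    exact ⟨e ⟨p, hp⟩, by simpa [g] using hq⟩
  let idx : PrimeSpectrum A → Fin T.card := fun q => Fin.find (fun i => q ∈ V (g i)) (hcov q)
  have hidx : ∀ q, q ∈ V (g (idx q)) := fun q => Fin.find_spec (p := fun i => q ∈ V (g i)) (hcov q)
  let ι : Type u := ULift (Fin T.card)
  let N := ∀ i : ι, Localization.Away (c (g i.down))
  let β0 : N →ₐ[A] Stalks A := AlgHom.pi fun q =>
    (awayTo _ q (hq _ q (hidx q)).1).comp (Pi.evalAlgHom A (fun i : ι => Localization.Away (c (g i.down))) ⟨idx q⟩)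
  have hmem : ∀ n, β0 n ∈ Aw A := fun n => isFrac_iff_open.2 fun p => by
    -- near `p` the chosen index is constant on a union of strata
    let W : Set (PrimeSpectrum A) := {q | idx q = idx p}
    obtain ⟨⟨a, ⟨_, k, rfl⟩⟩, hk⟩ := IsLocalization.surj (Submonoid.powers (c (g (idx p)))) (n ⟨idx p⟩)
    have hW : ∃ U, IsOpenC U ∧ p ∈ U ∧ U ⊆ W := by
      have key : ∀ S : Finset (Fin T.card), (∀ j ∈ S, j < idx p) →
          ∃ U, IsOpenC U ∧ p ∈ U ∧ ∀ q ∈ U, q ∈ V (g (idx p)) ∧ ∀ j ∈ S, q ∉ V (g j) := by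
        intro S hS
        induction S using Finset.induction_on with
        | empty => exact ⟨_, hV (g (idx p)), hidx p, fun q hq => ⟨hq, by simp⟩⟩
        | insert j S _ ih =>
          obtain ⟨U, hU, hpU, hUq⟩ := ih fun i hi => hS i (Finset.mem_insert_of_mem hi)
          have hj : p ∉ V (g j) := fun h =>
            (not_le.2 (hS j (Finset.mem_insert_self _ _))) (Fin.find_le_of_pos (p := fun i => p ∈ V (g i)) (hcov p) h)
          refine ⟨U ∩ (V (g j))ᶜ, hU.inter (IsOpenC.compl_strat _ _), ⟨hpU, hj⟩, fun q hq => ⟨(hUq q hq.1).1, fun i hi => ?_⟩⟩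
          rcases Finset.mem_insert.1 hi with rfl | hi
          · exact hq.2
          · exact (hUq q hq.1).2 i hi
      obtain ⟨U, hU, hpU, hUq⟩ := key (Finset.univ.filter fun j => j < idx p) (by simp)
      refine ⟨U, hU, hpU, fun q hqU => ?_⟩
      refine le_antisymm (Fin.find_le_of_pos (p := fun i => q ∈ V (g i)) (hcov q) (hUq q hqU).1) (not_lt.1 fun hlt => ?_)
      exact (hUq q hqU).2 (idx q) (Finset.mem_filter.2 ⟨Finset.mem_univ _, hlt⟩) (hidx q)
    obtain ⟨U, hU, hpU, hUW⟩ := hW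
    refine ⟨U, hU, hpU, a, c (g (idx p)) ^ k, fun q hqU => ?_⟩
    have e1 : idx q = idx p := hUW hqU
    have hc : c (g (idx p)) ∉ q.asIdeal := e1 ▸ (hq _ q (hidx q)).1
    refine ⟨fun h => hc (q.2.mem_of_pow_mem k h), ?_⟩
    have hkey : ∀ i (h : c (g i) ∉ q.asIdeal), i = idx p →
        awayTo _ q h (n ⟨i⟩) * algebraMap A _ (c (g (idx p)) ^ k) = algebraMap A _ a := by
      rintro i h rfl
      exact awayTo_mk h _ hk
    exact hkey (idx q) (hq _ q (hidx q)).1 e1
  haveI : ∀ i : ι, Algebra.IsLocalIso A (Localization.Away (c (g i.down))) := fun i => inferInstance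
  refine ⟨N, inferInstance, inferInstance, Algebra.IsLocalIso.pi_of_finite A _,
    AlgHom.pi fun i => ψ (g i.down), β0.codRestrict (Aw A) hmem, AlgHom.ext fun x => ext_ev fun q => ?_⟩
  exact AlgHom.congr_fun (hq _ q (hidx q)).2 x

end

end Groth.Agent.AwLib

namespace Groth.Agent.AwLib

theorem faithfullyFlat (A : Type u) [CommRing A] : Module.FaithfullyFlat A (Aw A) := by
  haveI := IndZarLib.flat_of_isIndZariski A (Aw A) (isIndZariski A)
  exact Module.FaithfullyFlat.of_comap_surjective fun p => ⟨cl p, comap_cl p⟩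

end Groth.Agent.AwLib
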