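import Groth.Agent.AwLib.IndZar
import Groth.Agent.WLocalLib.Retraction
import Groth.Agent.WLocalLib.Spectral

/-!
# Universal property of the w-localization
-/

universe u

namespace Groth.Agent.AwLib

noncomputable section

variable {A B : Type u} [CommRing A] [CommRing B] [Algebra A B]

/-- the composite `Aw A → A_p → B_m` -/
def target (m : PrimeSpectrum B) : Aw A →+* Localization.AtPrime m.asIdeal :=
  (Localization.localRingHom (PrimeSpectrum.comap (algebraMap A B) m).asIdeal m.asIdeal (algebraMap A B) rfl).comp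
    (ev (PrimeSpectrum.comap (algebraMap A B) m)).toRingHom

theorem target_algebraMap (m : PrimeSpectrum B) (a : A) :
    target m (algebraMap A (Aw A) a) = algebraMap B _ (algebraMap A B a) := by
  change Localization.localRingHom (PrimeSpectrum.comap (algebraMap A B) m).asIdeal m.asIdeal (algebraMap A B) rfl
    (ev (PrimeSpectrum.comap (algebraMap A B) m) (algebraMap A (Aw A) a)) = _
  rw [AlgHom.commutes]
  exact Localization.localRingHom_to_map _ _ _ rfl a

theorem eq_of_atMax {x y : B} (h : ∀ m : PrimeSpectrum B, IsClosed ({m} : Set (PrimeSpectrum B)) →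
    algebraMap B (Localization.AtPrime m.asIdeal) x = algebraMap B _ y) : x = y := by
  by_contra hne
  let J : Ideal B := (Submodule.span B {x - y}).annihilator
  have hJ : J ≠ ⊤ := fun hJ => by
    have := Submodule.mem_annihilator_span_singleton (x - y) (1 : B) |>.1 (show (1 : B) ∈ J by rw [hJ]; exact Submodule.mem_top)
    exact hne (sub_eq_zero.1 (by simpa using this))
  obtain ⟨M, hM, hle⟩ := Ideal.exists_le_maximal J hJ
  haveI := hM.isPrime
  have h1 := h ⟨M, hM.isPrime⟩ ((PrimeSpectrum.isClosed_singleton_iff_isMaximal _).2 hM)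
  rw [← sub_eq_zero, ← map_sub, IsLocalization.map_eq_zero_iff M.primeCompl] at h1
  obtain ⟨c, hc⟩ := h1
  exact c.2 (hle ((Submodule.mem_annihilator_span_singleton _ _).2 hc))

theorem exists_idem (hB : ProEtW.IsWLocal (PrimeSpectrum B)) (f : A) (G : Finset A) :
    ∃ e : B, ∀ m : PrimeSpectrum B, IsClosed ({m} : Set (PrimeSpectrum B)) →
      (PrimeSpectrum.comap (algebraMap A B) m ∈ strat f G → algebraMap B (Localization.AtPrime m.asIdeal) e = 1) ∧
      (PrimeSpectrum.comap (algebraMap A B) m ∉ strat f G → algebraMap B (Localization.AtPrime m.asIdeal) e = 0) := by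
  classical
  let X := {x : PrimeSpectrum B | IsClosed ({x} : Set (PrimeSpectrum B))}
  obtain ⟨hc, ht, htd⟩ := WLocalLib.isProfinite_closedPoints hB
  have hD : ∀ x : B, IsClopen ((Subtype.val : X → PrimeSpectrum B) ⁻¹' (PrimeSpectrum.basicOpen x : Set _)) := by
    refine fun x => ⟨?_, (PrimeSpectrum.basicOpen x).isOpen.preimage continuous_subtype_val⟩
    exact (hB.2.1.isClosedEmbedding_subtypeVal.isCompact_preimage (PrimeSpectrum.isCompact_basicOpen x)).isClosed
  let K : Set X := {x | PrimeSpectrum.comap (algebraMap A B) x.1 ∈ strat f G}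
  have hK : IsClopen K := by
    have e : K = ((Subtype.val : X → PrimeSpectrum B) ⁻¹' (PrimeSpectrum.basicOpen (algebraMap A B f) : Set _)) ∩
        ⋂ g ∈ G, ((Subtype.val : X → PrimeSpectrum B) ⁻¹' (PrimeSpectrum.basicOpen (algebraMap A B g) : Set _))ᶜ := by
      ext x
      simp [K, strat]
    rw [e]
    exact (hD _).inter (isClopen_biInter_finset fun g _ => (hD _).compl)
  let r : PrimeSpectrum B → X := fun x => ⟨WLocalLib.ret hB x, WLocalLib.ret_closed hB x⟩
  have hr : Continuous r := (WLocalLib.continuous_ret hB).subtype_mk _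
  obtain ⟨e, he, heq⟩ := PrimeSpectrum.exists_idempotent_basicOpen_eq_of_isClopen (hK.preimage hr)
  refine ⟨e, fun m hm => ?_⟩
  have hrm : r m = ⟨m, hm⟩ := Subtype.ext (WLocalLib.ret_eq_self hB hm)
  have hiff : e ∉ m.asIdeal ↔ PrimeSpectrum.comap (algebraMap A B) m ∈ strat f G := by
    have := Set.ext_iff.1 heq m
    rw [Set.mem_preimage, hrm] at this
    exact this.symm
  have hidem : IsIdempotentElem (algebraMap B (Localization.AtPrime m.asIdeal) e) := he.map _
  refine ⟨fun h => ?_, fun h => ?_⟩
  · exact (IsLocalization.map_units (Localization.AtPrime m.asIdeal) (⟨e, hiff.2 h⟩ : m.asIdeal.primeCompl)).mul_left_cancel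
      (by rw [mul_one]; exact hidem)
  · refine (IsLocalization.map_eq_zero_iff m.asIdeal.primeCompl _ e).2 ⟨⟨1 - e, fun hh => ?_⟩, by simp [sub_mul, he.eq]⟩
    have he' : e ∈ m.asIdeal := Classical.not_not.1 (mt hiff.1 h)
    exact m.2.one_notMem (by simpa using m.asIdeal.add_mem hh he')

theorem target_eq {s : Aw A} {m : PrimeSpectrum B} {f : A} {G : Finset A} {a b : A}
    (hab : IsFracOn s.1 (strat f G) a b) (h : PrimeSpectrum.comap (algebraMap A B) m ∈ strat f G) :
    target m s * algebraMap B _ (algebraMap A B b) = algebraMap B _ (algebraMap A B a) := by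
  rw [← target_algebraMap, ← target_algebraMap, target, RingHom.comp_apply, RingHom.comp_apply, RingHom.comp_apply,
    ← map_mul]
  congr 1
  refine ((congrArg (ev _ s * ·) ((ev _).commutes b)).trans ?_).trans ((ev _).commutes a).symm
  exact (hab _ h).2

theorem exists_preimage (hB : ProEtW.IsWLocal (PrimeSpectrum B)) (s : Aw A) :
    ∃ u : B, ∀ m : PrimeSpectrum B, IsClosed ({m} : Set (PrimeSpectrum B)) →
      algebraMap B (Localization.AtPrime m.asIdeal) u = target m s := by
  let J : Ideal B :=
    { carrier := {d | ∃ u : B, ∀ m : PrimeSpectrum B, IsClosed ({m} : Set (PrimeSpectrum B)) →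
        algebraMap B (Localization.AtPrime m.asIdeal) u = algebraMap B _ d * target m s}
      zero_mem' := ⟨0, fun m _ => by simp⟩
      add_mem' := fun {d d'} ⟨u, hu⟩ ⟨u', hu'⟩ => ⟨u + u', fun m hm => by rw [map_add, map_add, hu m hm, hu' m hm, add_mul]⟩
      smul_mem' := fun r d ⟨u, hu⟩ => ⟨r * u, fun m hm => by rw [smul_eq_mul, map_mul, map_mul, hu m hm, mul_assoc]⟩ }
  have hJ : J = ⊤ := by
    by_contra hne
    obtain ⟨M, hM, hle⟩ := Ideal.exists_le_maximal J hne
    let m : PrimeSpectrum B := ⟨M, hM.isPrime⟩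
    have hm : IsClosed ({m} : Set (PrimeSpectrum B)) := (PrimeSpectrum.isClosed_singleton_iff_isMaximal _).2 hM
    obtain ⟨f, G, hp, a, b, hab⟩ := s.2 (PrimeSpectrum.comap (algebraMap A B) m)
    obtain ⟨e, he⟩ := exists_idem hB f G
    have hmem : e * algebraMap A B b ∈ J := ⟨e * algebraMap A B a, fun n hn => by
      by_cases h : PrimeSpectrum.comap (algebraMap A B) n ∈ strat f G
      · rw [map_mul, map_mul, (he n hn).1 h, one_mul, one_mul, mul_comm, target_eq hab h]
      · rw [map_mul, map_mul, (he n hn).2 h, zero_mul, zero_mul, zero_mul]⟩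
    rcases hM.isPrime.mem_or_mem (hle hmem) with h | h
    · have h1 : IsUnit (algebraMap B (Localization.AtPrime m.asIdeal) e) := by rw [(he m hm).1 hp]; exact isUnit_one
      exact ((IsLocalization.AtPrime.isUnit_to_map_iff _ m.asIdeal e).1 h1) h
    · exact (hab _ hp).1 h
  obtain ⟨u, hu⟩ : (1 : B) ∈ J := hJ ▸ Submodule.mem_top
  exact ⟨u, fun m hm => by rw [hu m hm, map_one, one_mul]⟩

/-- the map given by the universal property -/
def lift (hB : ProEtW.IsWLocal (PrimeSpectrum B)) : Aw A →ₐ[A] B :=
  have spec := fun s m hm => (exists_preimage hB s).choose_spec m hm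
  { toFun := fun s => (exists_preimage hB s).choose
    map_one' := eq_of_atMax fun m hm => by rw [spec 1 m hm, map_one, map_one]
    map_mul' := fun s t => eq_of_atMax fun m hm => by rw [spec (s * t) m hm, map_mul, map_mul, spec s m hm, spec t m hm]
    map_zero' := eq_of_atMax fun m hm => by rw [spec 0 m hm, map_zero, map_zero]
    map_add' := fun s t => eq_of_atMax fun m hm => by rw [spec (s + t) m hm, map_add, map_add, spec s m hm, spec t m hm]
    commutes' := fun a => eq_of_atMax fun m hm => by rw [spec (algebraMap A (Aw A) a) m hm, target_algebraMap] }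

theorem comap_lift (hB : ProEtW.IsWLocal (PrimeSpectrum B)) {m : PrimeSpectrum B}
    (hm : IsClosed ({m} : Set (PrimeSpectrum B))) :
    PrimeSpectrum.comap (lift (A := A) hB).toRingHom m = cl (PrimeSpectrum.comap (algebraMap A B) m) := by
  refine PrimeSpectrum.ext (Ideal.ext fun s => ?_)
  change lift hB s ∈ m.asIdeal ↔ ev _ s ∈ IsLocalRing.maximalIdeal _
  rw [← IsLocalization.AtPrime.to_map_mem_maximal_iff (Localization.AtPrime m.asIdeal) m.asIdeal,
    show algebraMap B (Localization.AtPrime m.asIdeal) (lift hB s) = target m s from (exists_preimage hB s).choose_spec m hm]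
  simp only [IsLocalRing.mem_maximalIdeal, mem_nonunits_iff]
  haveI := Localization.isLocalHom_localRingHom (PrimeSpectrum.comap (algebraMap A B) m).asIdeal m.asIdeal
    (algebraMap A B) rfl
  exact not_congr ⟨fun h => isUnit_of_map_unit (Localization.localRingHom _ _ (algebraMap A B) rfl) _ h,
    fun h => h.map (Localization.localRingHom _ _ (algebraMap A B) rfl)⟩

theorem isWLocalMap_lift (hB : ProEtW.IsWLocal (PrimeSpectrum B)) :
    ProEtW.IsWLocalMap (PrimeSpectrum.comap (lift (A := A) hB).toRingHom) := by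
  refine ⟨WLocalLib.isSpectralMap_comap _, fun m hm => ?_⟩
  rw [comap_lift hB hm]
  exact (PrimeSpectrum.isClosed_singleton_iff_isMaximal _).2 (cl_isMaximal _)

theorem lift_unique (hB : ProEtW.IsWLocal (PrimeSpectrum B)) (φ : Aw A →ₐ[A] B)
    (hφ : ProEtW.IsWLocalMap (PrimeSpectrum.comap φ.toRingHom)) : φ = lift hB := by
  classical
  refine AlgHom.ext fun s => eq_of_atMax fun m hm => ?_
  rw [show algebraMap B (Localization.AtPrime m.asIdeal) (lift hB s) = target m s from (exists_preimage hB s).choose_spec m hm]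
  set p := PrimeSpectrum.comap (algebraMap A B) m
  have hcl : PrimeSpectrum.comap φ.toRingHom m = cl p := by
    have h1 := isClosed_singleton_iff.1 (hφ.2 m hm)
    rw [h1]
    refine congrArg cl ?_
    rw [← comap_cl (pt _), ← h1, ← PrimeSpectrum.comap_comp_apply]
    exact congrArg (fun g => PrimeSpectrum.comap g m) φ.comp_algebraMap
  obtain ⟨f, G, hp, a, b, hab⟩ := s.2 p
  have hz : (s * algebraMap A (Aw A) b - algebraMap A (Aw A) a) * ind f G = 0 := ext_ev fun q => by
    rw [map_mul, map_zero, map_sub, map_mul, AlgHom.commutes, AlgHom.commutes]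
    by_cases hq : q ∈ strat f G
    · rw [show ev q s * algebraMap A _ b = algebraMap A _ a from (hab q hq).2, sub_self, zero_mul]
    · rw [ev_ind_of_notMem hq, mul_zero]
  have hu : IsUnit (algebraMap B (Localization.AtPrime m.asIdeal) (φ (ind f G))) := by
    refine (IsLocalization.AtPrime.isUnit_to_map_iff _ m.asIdeal _).2 (fun h => ?_)
    refine ind_notMem (P := cl p) (by rw [pt_cl]; exact hp) ?_
    rw [← hcl]; exact h
  have := congrArg (fun z => algebraMap B (Localization.AtPrime m.asIdeal) (φ z)) hz
  simp only [map_mul, map_zero, hu.mul_left_eq_zero, map_sub, sub_eq_zero, AlgHom.commutes] at this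
  refine (IsLocalization.map_units (Localization.AtPrime m.asIdeal)
    (⟨algebraMap A B b, (hab p hp).1⟩ : m.asIdeal.primeCompl)).mul_right_cancel ?_
  exact this.trans (target_eq hab hp).symm

end

end Groth.Agent.AwLib
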